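import Mathlib
import Cfsg.Agent.Lib.Helper5.OBN.Eich
import Cfsg.Agent.Lib.Helper9.OrthMax3

set_option autoImplicit false

/-!
Calculus of Eichler transformations of a quadratic space (generic form): commutation, the
commutator formulas of Chevalley type, sums, and the bridge to the "full point" criterion.
-/

namespace Cfsg.Agent.Lib.Helper5.OrthGen

open Matrix Cfsg.Agent.H9Sieg Cfsg.Agent.Lib.Helper5.OBN

variable {F : Type*} [Field F] {ι : Type} [Fintype ι] [DecidableEq ι]
variable {Q : QuadraticForm F (ι → F)}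

section calculus
variable {u v u' v' w w' z : ι → F}

/-- an Eichler transformation fixes the vectors perpendicular to both of its vectors -/
theorem eich_fix (h : EPair Q u v) {x : ι → F} (hxu : bp Q x u = 0) (hxv : bp Q x v = 0) :
    mat (eich Q u v) *ᵥ x = x := by
  rw [eich_mulVec h, hxu, hxv]
  simp

/-- Eichler transformations attached to mutually perpendicular pairs commute -/
theorem eich_comm (h : EPair Q u v) (h' : EPair Q u' v') (h1 : bp Q u u' = 0)
    (h2 : bp Q u v' = 0) (h3 : bp Q v u' = 0) (h4 : bp Q v v' = 0) :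
    eich Q u v * eich Q u' v' = eich Q u' v' * eich Q u v := by
  have hc := eich_conj h (eich Q u' v')
  rw [eich_fix h' h1 h2, eich_fix h' h3 h4] at hc
  exact (mul_inv_eq_iff_eq_mul.1 hc).symm

/-- symmetry in the two vectors when both are singular -/
theorem eich_symm (hu : Q u = 0) (hv : Q v = 0) (huv : bp Q u v = 0) :
    eich Q u v = eich Q v (-u) := by
  have h : EPair Q u v := ⟨hu, huv⟩
  have h' : EPair Q v (-u) := ⟨hv, by rw [map_neg, bp_comm, huv, neg_zero]⟩
  apply iso_ext
  intro x
  rw [eich_mulVec h, eich_mulVec h', hv]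
  have : Q (-u) = 0 := by
    have e : (-u) = (-1 : F) • u := by module
    rw [e, Q_smul, hu, mul_zero]
  rw [this, map_neg]
  module

/-- the commutator formula of Chevalley type: `u, v, w` singular, `B(w, w') = 1`, all other pairs
perpendicular -/
theorem eich_chev (hu : Q u = 0) (hv : Q v = 0) (hw : Q w = 0)
    (huv : bp Q u v = 0) (huw : bp Q u w = 0) (huw' : bp Q u w' = 0) (hwv : bp Q w v = 0)
    (hvw' : bp Q v w' = 0) (hww' : bp Q w w' = 1) (a b : F) :
    eich Q u (a • w') * eich Q w (b • v) =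
      eich Q u ((-(a * b)) • v) * (eich Q w (b • v) * eich Q u (a • w')) := by
  have hg : EPair Q u (a • w') := ⟨hu, by rw [map_smul, huw', smul_zero]⟩
  have hh : EPair Q w (b • v) := ⟨hw, by rw [map_smul, hwv, smul_zero]⟩
  have hbv : Q (b • v) = 0 := by rw [Q_smul, hv, mul_zero]
  have hE : EPair Q u ((-(a * b)) • v) := ⟨hu, by rw [map_smul, huv, smul_zero]⟩
  -- conjugate
  have hc := eich_conj hh (eich Q u (a • w'))
  have e1 : mat (eich Q u (a • w')) *ᵥ w = w - a • u := by
    have hwu' : bp Q w u = 0 := by rw [bp_comm, huw]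
    rw [eich_mulVec hg, hwu', map_smul, hww']
    simp
  have e2 : mat (eich Q u (a • w')) *ᵥ (b • v) = b • v := by
    apply eich_fix hg
    · rw [LinearMap.map_smul₂, bp_comm, huv, smul_zero]
    · rw [LinearMap.map_smul₂, map_smul, hvw', smul_zero, smul_zero]
  rw [e1, e2] at hc
  -- rewrite the conjugate
  have hwu : Q (w - a • u) = 0 := by
    rw [Q_sub, hw, Q_smul, hu, map_smul, bp_comm, huw]
    simp
  have hwuv : bp Q (w - a • u) (b • v) = 0 := by
    rw [map_sub, LinearMap.sub_apply, map_smul, hwv, LinearMap.map_smul₂, map_smul, huv]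
    simp
  have e3 : eich Q (w - a • u) (b • v) = eich Q w (b • v) * eich Q u ((-(a * b)) • v) := by
    rw [eich_symm hwu hbv hwuv, eich_symm hw hbv (by rw [map_smul, hwv, smul_zero]),
      eich_symm hu (by rw [Q_smul, hv, mul_zero] : Q ((-(a * b)) • v) = 0)
        (by rw [map_smul, huv, smul_zero])]
    have hb1 : EPair Q (b • v) (-w) :=
      ⟨hbv, by rw [map_neg, LinearMap.map_smul₂, bp_comm, hwv, smul_zero, neg_zero]⟩
    have hb2 : EPair Q (b • v) (a • u) :=
      ⟨hbv, by rw [map_smul, LinearMap.map_smul₂, bp_comm, huv, smul_zero, smul_zero]⟩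
    have hb3 : EPair Q ((-(a * b)) • v) (-u) :=
      ⟨by rw [Q_smul, hv, mul_zero], by
        rw [map_neg, LinearMap.map_smul₂, bp_comm, huv, smul_zero, neg_zero]⟩
    have e4 : eich Q ((-(a * b)) • v) (-u) = eich Q (b • v) (a • u) := by
      have hv0 : EPair Q v (-u) := ⟨hv, by rw [map_neg, bp_comm, huv, neg_zero]⟩
      have hv1 : EPair Q v (a • u) := ⟨hv, by rw [map_smul, bp_comm, huv, smul_zero]⟩
      rw [eich_smul_left hv0, eich_smul_left hv1 b]
      congr 1
      module
    rw [e4, eich_mul hb2 hb1]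
    congr 1
    module
  rw [e3] at hc
  -- `g h g⁻¹ = h E`
  have hcomm : eich Q w (b • v) * eich Q u ((-(a * b)) • v) =
      eich Q u ((-(a * b)) • v) * eich Q w (b • v) := by
    apply eich_comm hh hE
    · rw [bp_comm, huw]
    · rw [map_smul, hwv, smul_zero]
    · rw [LinearMap.map_smul₂, bp_comm, huv, smul_zero]
    · rw [LinearMap.map_smul₂, map_smul, bp_self_of_sing hv, smul_zero, smul_zero]
  rw [hcomm] at hc
  rw [← mul_assoc, ← hc]
  group

/-- the commutator formula for two Eichler transformations sharing the second vector `z`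
(short root elements): `u, u'` singular and perpendicular, `z` perpendicular to both -/
theorem eich_short (hu : Q u = 0) (hu' : Q u' = 0) (huu' : bp Q u u' = 0) (huz : bp Q u z = 0)
    (hu'z : bp Q u' z = 0) (a b : F) :
    eich Q u (a • z) * eich Q u' (b • z) =
      eich Q u' ((-(a * b * bp Q z z)) • u) * (eich Q u' (b • z) * eich Q u (a • z)) := by
  have hg : EPair Q u (a • z) := ⟨hu, by rw [map_smul, huz, smul_zero]⟩
  have hh : EPair Q u' (b • z) := ⟨hu', by rw [map_smul, hu'z, smul_zero]⟩
  have hu'u : bp Q u' u = 0 := by rw [bp_comm, huu']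
  have hE : EPair Q u' ((-(a * b * bp Q z z)) • u) := ⟨hu', by rw [map_smul, hu'u, smul_zero]⟩
  have hc := eich_conj hh (eich Q u (a • z))
  have e1 : mat (eich Q u (a • z)) *ᵥ u' = u' := by
    apply eich_fix hg hu'u
    rw [map_smul, hu'z, smul_zero]
  have e2 : mat (eich Q u (a • z)) *ᵥ (b • z) = b • z + (-(a * b * bp Q z z)) • u := by
    have hzu : bp Q z u = 0 := by rw [bp_comm, huz]
    have t1 : bp Q (b • z) u = 0 := by rw [LinearMap.map_smul₂, hzu, smul_zero]
    have t2 : bp Q (b • z) (a • z) = b * (a * bp Q z z) := by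
      rw [LinearMap.map_smul₂, map_smul, smul_eq_mul, smul_eq_mul]
    rw [eich_mulVec hg, t1, t2]
    module
  rw [e1, e2] at hc
  have e3 : eich Q u' (b • z + (-(a * b * bp Q z z)) • u) =
      eich Q u' ((-(a * b * bp Q z z)) • u) * eich Q u' (b • z) := eich_mul hh hE |>.symm
  rw [e3] at hc
  rw [← mul_assoc, ← hc]
  group

end calculus

section sums

/-- Eichler transformations of a sum of vectors -/
theorem eich_sum_mem (K : Subgroup ↥(Cfsg.isometryGroup F ⇑Q)) {u : ι → F} (hu : Q u = 0)
    {α : Type*} (s : Finset α) (v : α → ι → F) (hv : ∀ i ∈ s, bp Q u (v i) = 0)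
    (h : ∀ i ∈ s, eich Q u (v i) ∈ K) : eich Q u (∑ i ∈ s, v i) ∈ K := by
  classical
  induction s using Finset.induction_on with
  | empty =>
    rw [Finset.sum_empty, eich_zero hu]
    exact K.one_mem
  | insert a s ha ih =>
    rw [Finset.sum_insert ha]
    have h1 : EPair Q u (v a) := ⟨hu, hv a (Finset.mem_insert_self a s)⟩
    have h2 : EPair Q u (∑ i ∈ s, v i) := ⟨hu, by
      rw [map_sum]
      exact Finset.sum_eq_zero fun i hi => hv i (Finset.mem_insert_of_mem hi)⟩
    rw [← eich_mul h1 h2]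
    exact K.mul_mem (ih (fun i hi => hv i (Finset.mem_insert_of_mem hi))
      (fun i hi => h i (Finset.mem_insert_of_mem hi))) (h a (Finset.mem_insert_self a s))

/-- a vector is the sum of its coordinates -/
theorem eq_sum_single (x : ι → F) : x = ∑ a, x a • (Pi.single a (1 : F) : ι → F) := by
  funext c
  rw [Finset.sum_apply]
  simp [Pi.single_apply]

end sums

section bridge

/-- the two versions of the Eichler transformations agree -/
theorem h9eich_eq (hQ : (QuadraticMap.polarBilin Q).Nondegenerate) (u v : ι → F) (hu : Q u = 0) (huv : QuadraticMap.polar (⇑Q) u v = 0) :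
    Cfsg.Agent.H9Orth.eich hQ u v hu huv = eich Q u v := by
  have h : EPair Q u v := ⟨hu, huv⟩
  apply iso_ext
  intro x
  rw [Cfsg.Agent.H9Orth.eich_mulVec, eich_mulVec h]
  have e1 : bp Q x u = QuadraticMap.polar (⇑Q) u x := by rw [bp_comm]; rfl
  have e2 : bp Q x v = QuadraticMap.polar (⇑Q) v x := by rw [bp_comm]; rfl
  rw [e1, e2]

/-- a point all of whose Eichler transformations lie in the subgroup is full -/
theorem full_of_eich (hQ : (QuadraticMap.polarBilin Q).Nondegenerate) (K : Subgroup ↥(Cfsg.isometryGroup F ⇑Q)) (u : ι → F)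
    (h : ∀ v, bp Q u v = 0 → eich Q u v ∈ K) :
    Cfsg.Agent.H9Orth.Full hQ (K.map (Cfsg.isometryGroup F ⇑Q).subtype) u := by
  intro hu v huv
  rw [h9eich_eq hQ u v hu huv]
  exact Subgroup.mem_map_of_mem _ (h v huv)

/-- **criterion**: a subgroup containing all Eichler transformations of two singular vectors
which are not perpendicular contains `Ω` -/
theorem commutator_le_of_two_full [Fintype F] (hQ : (QuadraticMap.polarBilin Q).Nondegenerate)
    (hn : 7 ≤ Fintype.card ι)
    (K : Subgroup ↥(Cfsg.isometryGroup F ⇑Q)) (u z : ι → F) (hu : Q u = 0) (hz : Q z = 0)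
    (huz : bp Q u z ≠ 0) (hfu : ∀ v, bp Q u v = 0 → eich Q u v ∈ K)
    (hfz : ∀ v, bp Q z v = 0 → eich Q z v ∈ K) :
    commutator ↥(Cfsg.isometryGroup F ⇑Q) ≤ K := by
  have h1 := full_of_eich hQ K u hfu
  have h2 := full_of_eich hQ K z hfz
  have hall : ∀ y : ι → F, Q y = 0 →
      Cfsg.Agent.H9Orth.Full hQ (K.map (Cfsg.isometryGroup F ⇑Q).subtype) y :=
    fun y hy => Cfsg.Agent.H9Orth.full_all hQ h1 h2 hu hz huz y hy
  have hle := Cfsg.Agent.H9Orth.omegaGL_le_of_full hQ hn hall
  intro g hg
  have hg' : (g : Matrix.GeneralLinearGroup ι F) ∈ Cfsg.Geo.omegaGL ⇑Q :=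
    Subgroup.mem_map_of_mem _ hg
  obtain ⟨k, hk, hkg⟩ := Subgroup.mem_map.1 (hle hg')
  have : k = g := Subtype.ext hkg
  rw [← this]
  exact hk

end bridge

end Cfsg.Agent.Lib.Helper5.OrthGen
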