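import Mathlib
import Cfsg.Agent.Lib.Helper5.OrthGen.EichCalc
import Cfsg.Agent.Lib.Helper5.OBN.EichPlus

set_option autoImplicit false

/-!
More on the calculus of Eichler transformations: powers, conjugation with rescaling, parameter
groups.
-/

namespace Cfsg.Agent.Lib.Helper5.OrthGen

open Matrix Cfsg.Agent.H9Sieg Cfsg.Agent.Lib.Helper5.OBN

variable {F : Type*} [Field F] {ι : Type} [Fintype ι] [DecidableEq ι]
variable {Q : QuadraticForm F (ι → F)}

theorem eich_pow {u v : ι → F} (h : EPair Q u v) (k : ℕ) :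
    eich Q u v ^ k = eich Q u (k • v) := by
  induction k with
  | zero => rw [pow_zero, zero_smul, eich_zero h.hu]
  | succ k ih =>
    have hk : EPair Q u (k • v) := by
      rw [← Nat.cast_smul_eq_nsmul F]
      exact h.smul _
    rw [pow_succ, ih, eich_mul h hk, add_comm, succ_nsmul]

theorem eich_pow_char {u v : ι → F} (h : EPair Q u v) (p : ℕ) [CharP F p] :
    eich Q u v ^ p = 1 := by
  rw [eich_pow h, ← Nat.cast_smul_eq_nsmul F, CharP.cast_eq_zero, zero_smul, eich_zero h.hu]

/-- conjugation by an isometry mapping the two vectors to multiples of two other vectors -/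
theorem eich_conj_smul {g : ↥(Cfsg.isometryGroup F ⇑Q)} {u z u' z' : ι → F} {a b : F}
    (h : EPair Q u z) (h' : EPair Q u' z') (hgu : mat g *ᵥ u = a • u')
    (hgz : mat g *ᵥ z = b • z') (c : F) :
    g * eich Q u (c • z) * g⁻¹ = eich Q u' ((a * b * c) • z') := by
  rw [eich_conj (h.smul c) g, hgu, Matrix.mulVec_smul, hgz, eich_smul_left ((h'.smul b).smul c) a]
  congr 1
  module

theorem eich_conj_smul_mem (K : Subgroup ↥(Cfsg.isometryGroup F ⇑Q))
    {g : ↥(Cfsg.isometryGroup F ⇑Q)} (hg : g ∈ K) {u z u' z' : ι → F} {a b : F}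
    (h : EPair Q u z) (h' : EPair Q u' z') (hgu : mat g *ᵥ u = a • u')
    (hgz : mat g *ᵥ z = b • z') {c : F} (hc : eich Q u (c • z) ∈ K) :
    eich Q u' ((a * b * c) • z') ∈ K := by
  rw [← eich_conj_smul h h' hgu hgz c]
  exact K.mul_mem (K.mul_mem hg hc) (K.inv_mem hg)

/-- the parameter group of a family of Eichler transformations -/
def paramG (K : Subgroup ↥(Cfsg.isometryGroup F ⇑Q)) {u z : ι → F} (h : EPair Q u z) :
    AddSubgroup F where
  carrier := {c | eich Q u (c • z) ∈ K}
  zero_mem' := by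
    show eich Q u ((0 : F) • z) ∈ K
    rw [zero_smul, eich_zero h.hu]
    exact K.one_mem
  add_mem' := by
    intro a b ha hb
    show eich Q u ((a + b) • z) ∈ K
    rw [add_smul, ← eich_mul (h.smul a) (h.smul b)]
    exact K.mul_mem hb ha
  neg_mem' := by
    intro a ha
    show eich Q u ((-a) • z) ∈ K
    rw [neg_smul, ← eich_inv (h.smul a)]
    exact K.inv_mem ha

theorem mem_paramG (K : Subgroup ↥(Cfsg.isometryGroup F ⇑Q)) {u z : ι → F} (h : EPair Q u z)
    (c : F) : c ∈ paramG K h ↔ eich Q u (c • z) ∈ K := Iff.rfl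

end Cfsg.Agent.Lib.Helper5.OrthGen
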