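import Mathlib
import Cfsg.Agent.Lib.Helper8.OrthLeviG
import Cfsg.Agent.Lib.Lead.OrthCyc
import Cfsg.Agent.Lib.Helper5.OrthGen.EichCalc

set_option autoImplicit false

/-!
The action of the Levi images of the signed cycles and of the diagonal matrices on the coordinate
vectors.
-/

namespace Cfsg.Agent.Lib.Helper5.OrthGen

open Matrix Cfsg.Agent.H9Sieg Cfsg.Agent.Lib.Helper5.OBN

variable {m : ℕ} {κ : Type} [Fintype κ] [DecidableEq κ] {F : Type*} [Field F]
variable (Q₀ : QuadraticForm F (κ → F))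

/-- the Levi image of an element of `SL_m` -/
noncomputable def leviS (S : Matrix.SpecialLinearGroup (Fin m) F) : OG m Q₀ :=
  leviG Q₀ (Matrix.SpecialLinearGroup.toGL S)

theorem leviS_mul (S T : Matrix.SpecialLinearGroup (Fin m) F) :
    leviS Q₀ (S * T) = leviS Q₀ S * leviS Q₀ T := by
  unfold leviS
  rw [map_mul, map_mul]

theorem leviS_one : leviS Q₀ (1 : Matrix.SpecialLinearGroup (Fin m) F) = 1 := by
  unfold leviS
  rw [map_one, map_one]

theorem leviS_pow (S : Matrix.SpecialLinearGroup (Fin m) F) (k : ℕ) :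
    leviS Q₀ (S ^ k) = leviS Q₀ S ^ k := by
  unfold leviS
  rw [map_pow, map_pow]

theorem leviS_iE (S : Matrix.SpecialLinearGroup (Fin m) F) (k : Fin m) :
    mat (leviS Q₀ S) *ᵥ (ev (iE k) : Idx m κ → F) = ∑ i, S.1 i k • (ev (iE i) : Idx m κ → F) :=
  leviG_mulVec_iE Q₀ _ k

theorem leviS_iF (S : Matrix.SpecialLinearGroup (Fin m) F) (k : Fin m) :
    mat (leviS Q₀ S) *ᵥ (ev (iF k) : Idx m κ → F) =
      ∑ i, (S⁻¹ : Matrix.SpecialLinearGroup (Fin m) F).1 k i • (ev (iF i) : Idx m κ → F) := by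
  unfold leviS
  rw [leviG_mulVec_iF, ← map_inv]
  rfl

theorem leviS_kvec (S : Matrix.SpecialLinearGroup (Fin m) F) (v : κ → F) :
    mat (leviS Q₀ S) *ᵥ (kvec v : Idx m κ → F) = kvec v :=
  leviG_mulVec_kvec Q₀ _ v

/-- the sign of the signed cycle -/
theorem cycSgn_ne_zero (i b : Fin m) : cycSgn F i b ≠ 0 := by
  intro h
  have := cycSgn_mul_self (F := F) i b
  rw [h, mul_zero] at this
  exact zero_ne_one this

theorem leviS_cyc_iE (i k : Fin m) :
    mat (leviS Q₀ (cycSL F i)) *ᵥ (ev (iE k) : Idx m κ → F) =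
      cycSgn F i k • ev (iE (Fin.cycleRange i k)) := by
  rw [leviS_iE, Finset.sum_eq_single (Fin.cycleRange i k)]
  · rw [cycSL_apply, if_pos rfl]
    rfl
  · intro b _ hb
    rw [cycSL_apply, if_neg hb, zero_smul]
  · intro h
    exact absurd (Finset.mem_univ _) h

theorem leviS_cyc_iF (i k : Fin m) :
    mat (leviS Q₀ (cycSL F i)) *ᵥ (ev (iF k) : Idx m κ → F) =
      cycSgn F i k • ev (iF (Fin.cycleRange i k)) := by
  rw [leviS_iF, Finset.sum_eq_single (Fin.cycleRange i k)]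
  · rw [cycSL_inv_apply, cycSL_apply, if_pos rfl]
    rfl
  · intro b _ hb
    rw [cycSL_inv_apply, cycSL_apply, if_neg hb, zero_smul]
  · intro h
    exact absurd (Finset.mem_univ _) h

theorem leviS_diag_iE (μ : Fin m → Fˣ) (h : ∏ i, μ i = 1) (k : Fin m) :
    mat (leviS Q₀ (diagSL μ h)) *ᵥ (ev (iE k) : Idx m κ → F) = (μ k : F) • ev (iE k) := by
  rw [leviS_iE, Finset.sum_eq_single k]
  · rw [diagSL_apply, if_pos rfl]
  · intro b _ hb
    rw [diagSL_apply, if_neg hb, zero_smul]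
  · intro h
    exact absurd (Finset.mem_univ _) h

theorem leviS_diag_iF (μ : Fin m → Fˣ) (h : ∏ i, μ i = 1) (k : Fin m) :
    mat (leviS Q₀ (diagSL μ h)) *ᵥ (ev (iF k) : Idx m κ → F) =
      (((μ k)⁻¹ : Fˣ) : F) • ev (iF k) := by
  rw [leviS_iF, Finset.sum_eq_single k]
  · rw [diagSL_inv_apply, if_pos rfl]
  · intro b _ hb
    rw [diagSL_inv_apply, if_neg (Ne.symm hb), zero_smul]
  · intro h
    exact absurd (Finset.mem_univ _) h

end Cfsg.Agent.Lib.Helper5.OrthGen
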