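import Mathlib
import Cfsg.Agent.Lib.Helper5.OBN.FinalOdd
import Cfsg.Agent.Lib.Helper5.OrthGen.LeviAct
import Cfsg.Agent.Lib.Helper5.OmegaCrit
import Cfsg.Agent.Lib.Helper5.OrthGen.EichMore

set_option autoImplicit false

/-!
The two generators of `Ω_{2m+1}(q)`, `m ≥ 3`, `q` odd: a short root element times a torus element,
and a monomial element inducing a negative cycle of length `m`.
-/

namespace Cfsg.Agent.Lib.Helper5.OrthGen

open Matrix Cfsg.Agent.H9Sieg Cfsg.Agent.Lib.Helper5.OBN Cfsg.Agent.Lib.Helper2.CDG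

section fin
variable {n : ℕ}

theorem val_two' : ((2 : Fin (n + 3)) : ℕ) = 2 := Fin.val_two

theorem fin01 : (0 : Fin (n + 3)) ≠ 1 := by
  intro h; have := congrArg Fin.val h; simp at this

theorem fin02 : (0 : Fin (n + 3)) ≠ 2 := by
  intro h; have := congrArg Fin.val h; rw [val_two'] at this; simp at this

theorem fin12 : (1 : Fin (n + 3)) ≠ 2 := by
  intro h; have := congrArg Fin.val h; rw [val_two'] at this; simp at this

end fin

section odd
variable {n : ℕ} {F : Type*} [Field F]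

/-- the form `Σ x_i y_i + z²` in dimension `2(n+3)+1` -/
noncomputable abbrev QO (n : ℕ) (F : Type*) [Field F] : QuadraticForm F (Idx (n + 3) Unit → F) :=
  Qg (n + 3) (sqForm F)

/-- the anisotropic basis vector -/
def wv (n : ℕ) (F : Type*) [Field F] : Idx (n + 3) Unit → F := kvec (fun _ => 1)

theorem QO_wv : QO n F (wv n F) = 1 := by
  unfold wv
  rw [Qg_kvec, sqForm_apply, mul_one]

theorem polar_sqForm (a b : Unit → F) :
    QuadraticMap.polar (sqForm F) a b = 2 * a () * b () := by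
  unfold QuadraticMap.polar
  rw [sqForm_apply, sqForm_apply, sqForm_apply, Pi.add_apply]
  ring

theorem bp_wv (x : Idx (n + 3) Unit → F) : bp (QO n F) x (wv n F) = 2 * x (iK ()) := by
  unfold wv
  rw [bp_kvec, polar_sqForm, mul_one]

theorem bp_ev_wv {a : Idx (n + 3) Unit} (ha : IsIso a) : bp (QO n F) (ev a) (wv n F) = 0 := by
  rw [bp_wv, ev_ne, mul_zero]
  intro e
  exact ha (by rw [← e]; rfl)

theorem bp_wv_wv : bp (QO n F) (wv n F) (wv n F) = 2 := by
  rw [bp_wv]
  show 2 * (1 : F) = 2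
  rw [mul_one]

theorem epair_ev_wv {a : Idx (n + 3) Unit} (ha : IsIso a) (c : F) :
    EPair (QO n F) (ev a) (c • wv n F) :=
  ⟨Qg_ev_iso _ ha, by rw [map_smul, bp_ev_wv ha, smul_zero]⟩

theorem bp_ev_ev {a b : Idx (n + 3) Unit} (ha : IsIso a) :
    bp (QO n F) (ev a) (ev b) = if th a = b then 1 else 0 := by
  rw [bp_ev_iso' _ _ ha, ev_apply]

theorem wv_eq : wv n F = ev (iK ()) := by
  funext c
  rcases c with c | z
  · rw [ev_ne (by simp)]
    rfl
  · cases z
    rw [ev_same]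
    rfl

/-! ### the generators -/

/-- the short root element -/
noncomputable def tO (n : ℕ) (F : Type*) [Field F] : OG (n + 3) (sqForm F) :=
  eich (QO n F) (ev (iE 0)) (wv n F)

/-- the parameters of the torus element -/
def muO (n : ℕ) (l : Fˣ) : Fin (n + 3) → Fˣ :=
  Function.update (Function.update (fun _ => 1) 1 l) 2 l⁻¹

theorem muO_zero (l : Fˣ) : muO n l 0 = 1 := by
  unfold muO
  rw [Function.update_of_ne fin02, Function.update_of_ne fin01]

theorem muO_one (l : Fˣ) : muO n l 1 = l := by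
  unfold muO
  rw [Function.update_of_ne fin12, Function.update_self]

theorem prod_muO (l : Fˣ) : ∏ i, muO n l i = 1 := by
  unfold muO
  rw [Finset.prod_update_of_mem (Finset.mem_univ _),
    Finset.prod_update_of_mem (by simp [fin12])]
  simp

/-- the torus element -/
noncomputable def sO (n : ℕ) {F : Type*} [Field F] (l : Fˣ) : OG (n + 3) (sqForm F) :=
  leviS (sqForm F) (diagSL (muO n l) (prod_muO l))

theorem Q_e0f0 : QO n F (ev (iE 0) + ev (iF 0)) = 1 := by
  rw [Q_add, Qg_ev_iso _ (isIso_iE 0), Qg_ev_iso _ (isIso_iF 0), bp_ev_ev (isIso_iE 0),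
    if_pos (th_iE 0)]
  ring

/-- the product of the two reflections -/
noncomputable def rO (n : ℕ) (F : Type*) [Field F] : OG (n + 3) (sqForm F) :=
  refl (QO n F) (ev (iE 0) + ev (iF 0)) (by rw [Q_e0f0]; exact one_ne_zero) *
    refl (QO n F) (wv n F) (by rw [QO_wv]; exact one_ne_zero)

/-- the monomial element -/
noncomputable def nO (n : ℕ) (F : Type*) [Field F] : OG (n + 3) (sqForm F) :=
  rO n F * leviS (sqForm F) (cycSL F (Fin.last (n + 2)))

/-- the action of the product of the two reflections -/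
theorem rO_mulVec (x : Idx (n + 3) Unit → F) :
    mat (rO n F) *ᵥ x = x - (2 * x (iK ())) • wv n F
      - (x (iE 0) + x (iF 0)) • (ev (iE 0) + ev (iF 0)) := by
  unfold rO
  rw [coe_mul_mulVec, refl_mulVec', refl_mulVec', QO_wv, Q_e0f0]
  have h1 : bp (QO n F) (wv n F) x = 2 * x (iK ()) := by rw [bp_comm, bp_wv]
  have h2 : ∀ y : Idx (n + 3) Unit → F, bp (QO n F) (ev (iE 0) + ev (iF 0)) y
      = y (iF 0) + y (iE 0) := by
    intro y
    rw [map_add, LinearMap.add_apply, bp_ev_iso' _ _ (isIso_iE 0), bp_ev_iso' _ _ (isIso_iF 0)]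
    rfl
  rw [h1, h2]
  simp only [Pi.sub_apply, Pi.smul_apply, smul_eq_mul]
  have h3 : (wv n F) (iF 0) = 0 := rfl
  have h4 : (wv n F) (iE 0) = 0 := rfl
  rw [h3, h4]
  module

theorem rO_ev {a : Idx (n + 3) Unit} (ha : IsIso a) (h1 : a ≠ iE 0) (h2 : a ≠ iF 0) :
    mat (rO n F) *ᵥ (ev a) = ev a := by
  rw [rO_mulVec, ev_ne (a := a) (b := iK ()), ev_ne h1.symm, ev_ne h2.symm]
  · simp
  · intro e
    exact ha (by rw [← e]; rfl)

theorem rO_e0 : mat (rO n F) *ᵥ (ev (iE 0)) = -(ev (iF 0) : Idx (n + 3) Unit → F) := by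
  rw [rO_mulVec, ev_ne (a := iE 0) (b := iK ()) (by simp), ev_same,
    ev_ne (a := iE 0) (b := iF 0) (by simp)]
  module

theorem rO_f0 : mat (rO n F) *ᵥ (ev (iF 0)) = -(ev (iE 0) : Idx (n + 3) Unit → F) := by
  rw [rO_mulVec, ev_ne (a := iF 0) (b := iK ()) (by simp), ev_same,
    ev_ne (a := iF 0) (b := iE 0) (by simp)]
  module

theorem rO_wv : mat (rO n F) *ᵥ (wv n F) = -(wv n F) := by
  rw [rO_mulVec]
  have h0 : (wv n F) (iK ()) = 1 := rfl
  have h3 : (wv n F) (iF 0) = 0 := rfl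
  have h4 : (wv n F) (iE 0) = 0 := rfl
  rw [h0, h3, h4]
  module

/-! ### the action of the monomial element -/

/-- the sign of the monomial element -/
def c0 (n : ℕ) (F : Type*) [Field F] : F := -((-1) ^ (n + 2))

theorem c0_ne_zero : c0 n F ≠ 0 := by
  unfold c0
  exact neg_ne_zero.2 (pow_ne_zero _ (neg_ne_zero.2 one_ne_zero))

/-- the next index -/
def nx (k : Fin (n + 3)) : Fin (n + 3) := Fin.cycleRange (Fin.last (n + 2)) k

theorem nx_val {k : Fin (n + 3)} (hk : k ≠ Fin.last (n + 2)) : (nx k).val = k.val + 1 :=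
  Fin.coe_cycleRange_of_lt (lt_of_le_of_ne (Fin.le_last k) hk)

theorem nx_ne_zero {k : Fin (n + 3)} (hk : k ≠ Fin.last (n + 2)) : nx k ≠ 0 := by
  intro e
  have := nx_val hk
  rw [e] at this
  simp at this

theorem nx_last : nx (Fin.last (n + 2)) = 0 := Fin.cycleRange_self _

theorem nO_iE {k : Fin (n + 3)} (hk : k ≠ Fin.last (n + 2)) :
    mat (nO n F) *ᵥ (ev (iE k)) = ev (iE (nx k)) := by
  unfold nO
  rw [coe_mul_mulVec, leviS_cyc_iE]
  unfold cycSgn
  rw [if_neg hk, one_smul]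
  apply rO_ev (isIso_iE _)
  · intro e
    exact nx_ne_zero hk (Sum.inl_injective (Sum.inl_injective e))
  · intro e
    cases Sum.inl_injective e

theorem nO_iF {k : Fin (n + 3)} (hk : k ≠ Fin.last (n + 2)) :
    mat (nO n F) *ᵥ (ev (iF k)) = ev (iF (nx k)) := by
  unfold nO
  rw [coe_mul_mulVec, leviS_cyc_iF]
  unfold cycSgn
  rw [if_neg hk, one_smul]
  apply rO_ev (isIso_iF _)
  · intro e
    cases Sum.inl_injective e
  · intro e
    exact nx_ne_zero hk (Sum.inr_injective (Sum.inl_injective e))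

theorem nO_iE_last :
    mat (nO n F) *ᵥ (ev (iE (Fin.last (n + 2)))) = c0 n F • ev (iF 0) := by
  unfold nO
  rw [coe_mul_mulVec, leviS_cyc_iE]
  unfold cycSgn
  rw [if_pos rfl, Matrix.mulVec_smul]
  show _ • (mat (rO n F) *ᵥ ev (iE (nx (Fin.last (n + 2))))) = _
  rw [nx_last, rO_e0]
  unfold c0
  rw [Fin.val_last]
  module

theorem nO_iF_last :
    mat (nO n F) *ᵥ (ev (iF (Fin.last (n + 2)))) = c0 n F • ev (iE 0) := by
  unfold nO
  rw [coe_mul_mulVec, leviS_cyc_iF]
  unfold cycSgn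
  rw [if_pos rfl, Matrix.mulVec_smul]
  show _ • (mat (rO n F) *ᵥ ev (iF (nx (Fin.last (n + 2))))) = _
  rw [nx_last, rO_f0]
  unfold c0
  rw [Fin.val_last]
  module

theorem nO_wv : mat (nO n F) *ᵥ (wv n F) = (-1 : F) • wv n F := by
  unfold nO
  rw [coe_mul_mulVec]
  unfold wv
  rw [leviS_kvec]
  have := rO_wv (n := n) (F := F)
  unfold wv at this
  rw [this]
  module

/-! ### the action of the torus element -/

theorem sO_iE (l : Fˣ) (k : Fin (n + 3)) :
    mat (sO n l) *ᵥ (ev (iE k) : Idx (n + 3) Unit → F) = (muO n l k : F) • ev (iE k) :=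
  leviS_diag_iE _ _ _ k

theorem sO_wv (l : Fˣ) : mat (sO n l) *ᵥ (wv n F) = wv n F :=
  leviS_kvec _ _ _

/-! ### membership in `Ω`, orders -/

theorem QO_nondeg [Fintype F] (h2 : (2 : F) ≠ 0) : (QuadraticMap.polarBilin (QO n F)).Nondegenerate :=
  Qg_nondeg (polar_nondeg_of_aniso h2 sqForm_aniso)

theorem QO_hnd [Fintype F] (h2 : (2 : F) ≠ 0) :
    ∀ y : Idx (n + 3) Unit → F, (∀ w, bp (QO n F) w y = 0) → y = 0 :=
  (QO_nondeg h2).2

theorem card_idx : Fintype.card (Idx (n + 3) Unit) = 2 * n + 7 := by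
  rw [Fintype.card_sum, Fintype.card_sum, Fintype.card_fin, Fintype.card_unit]
  omega

theorem tO_mem [Fintype F] (h2 : (2 : F) ≠ 0) : tO n F ∈ commutator (OG (n + 3) (sqForm F)) := by
  unfold tO
  have := epair_ev_wv (n := n) (F := F) (isIso_iE 0) 1
  rw [one_smul] at this
  exact eich_mem_commutator (QO_hnd h2) sqForm_aniso () (isIso_iE 0) this

theorem sO_mem [Fintype F] (h2 : (2 : F) ≠ 0) (l : Fˣ) : sO n l ∈ commutator (OG (n + 3) (sqForm F)) :=
  leviG_SL_mem_commutator (sqForm F) (QO_hnd h2) sqForm_aniso () _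

theorem rO_mem [Fintype F] (h2 : (2 : F) ≠ 0) : rO n F ∈ commutator (OG (n + 3) (sqForm F)) := by
  have hex : Fintype.card F ≠ 2 ∨ Fintype.card (Idx (n + 3) Unit) ≠ 4 := by
    right
    rw [card_idx]
    omega
  have hn : 2 ≤ Fintype.card (Idx (n + 3) Unit) := by
    rw [card_idx]
    omega
  rw [Cfsg.Agent.Lib.Helper5.OmegaCrit.criterion_all (QO_nondeg h2) hex hn (rO n F)
    [ev (iE 0) + ev (iF 0), wv n F] (by
      intro v hv
      rw [List.mem_cons, List.mem_singleton] at hv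
      rcases hv with rfl | rfl
      · rw [Q_e0f0]; exact one_ne_zero
      · rw [QO_wv]; exact one_ne_zero) (by
      simp only [List.map_cons, List.map_nil, List.prod_cons, List.prod_nil, mul_one]
      rfl)]
  refine ⟨⟨1, rfl⟩, ?_⟩
  simp only [List.map_cons, List.map_nil, List.prod_cons, List.prod_nil, mul_one]
  rw [Q_e0f0, QO_wv, mul_one]
  exact ⟨1, (mul_one 1).symm⟩

theorem nO_mem [Fintype F] (h2 : (2 : F) ≠ 0) : nO n F ∈ commutator (OG (n + 3) (sqForm F)) :=
  Subgroup.mul_mem _ (rO_mem h2)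
    (leviG_SL_mem_commutator (sqForm F) (QO_hnd h2) sqForm_aniso () _)

theorem sO_commute (l : Fˣ) : Commute (sO n l) (tO n F) := by
  have h : EPair (QO n F) (ev (iE 0)) (wv n F) := by
    have := epair_ev_wv (n := n) (F := F) (isIso_iE 0) 1
    rwa [one_smul] at this
  have e := eich_conj h (sO n l)
  rw [sO_iE, muO_zero, Units.val_one, one_smul, sO_wv] at e
  exact (mul_inv_eq_iff_eq_mul.1 e)

theorem sO_pow [Fintype Fˣ] (l : Fˣ) : sO n l ^ Fintype.card Fˣ = 1 := by
  unfold sO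
  rw [← leviS_pow, diagSL_pow _ _ _ (fun i => pow_card_eq_one), leviS_one]

theorem tO_pow (p : ℕ) [CharP F p] : tO n F ^ p = 1 := by
  have h : EPair (QO n F) (ev (iE 0)) (wv n F) := by
    have := epair_ev_wv (n := n) (F := F) (isIso_iE 0) 1
    rwa [one_smul] at this
  exact eich_pow_char h p

end odd

end Cfsg.Agent.Lib.Helper5.OrthGen
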