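import Mathlib
import Cfsg.Agent.Lib.Helper5.OrthGen.OddGens
import Cfsg.Agent.Lib.Helper3.SpTwo3

set_option autoImplicit false

/-!
The two generators of `OddGens` generate `Ω_{2m+1}(q)`, `m ≥ 3`, `q` odd.
-/

namespace Cfsg.Agent.Lib.Helper5.OrthGen

open Matrix Cfsg.Agent.H9Sieg Cfsg.Agent.Lib.Helper5.OBN Cfsg.Agent.Lib.Helper2.CDG

section main
variable {n : ℕ} {F : Type*} [Field F]

theorem epair_ev_wv1 {a : Idx (n + 3) Unit} (ha : IsIso a) :
    EPair (QO n F) (ev a) (wv n F) := by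
  have := epair_ev_wv (n := n) (F := F) ha 1
  rwa [one_smul] at this

/-- all short root elements at the index `a` -/
def SFull (K : Subgroup (OG (n + 3) (sqForm F))) (a : Idx (n + 3) Unit) : Prop :=
  ∀ c : F, eich (QO n F) (ev a) (c • wv n F) ∈ K

/-- all long root elements at the pair `a, b` -/
def LFull (K : Subgroup (OG (n + 3) (sqForm F))) (a b : Idx (n + 3) Unit) : Prop :=
  ∀ c : F, eich (QO n F) (ev a) (c • ev b) ∈ K

theorem sfull_step (K : Subgroup (OG (n + 3) (sqForm F))) {g : OG (n + 3) (sqForm F)}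
    (hg : g ∈ K) {a b : Idx (n + 3) Unit} (ha : IsIso a) (hb : IsIso b) {α β : F} (hα : α ≠ 0)
    (hβ : β ≠ 0) (hga : mat g *ᵥ (ev a) = α • ev b) (hgw : mat g *ᵥ (wv n F) = β • wv n F)
    (h : SFull K a) : SFull K b := by
  intro c
  have := eich_conj_smul_mem K hg (epair_ev_wv1 ha) (epair_ev_wv1 hb) hga hgw
    (h ((α * β)⁻¹ * c))
  rwa [← mul_assoc, mul_inv_cancel₀ (mul_ne_zero hα hβ), one_mul] at this

theorem neg_one_ne_zero' : (-1 : F) ≠ 0 := neg_ne_zero.2 one_ne_zero

theorem sfull_iE_chain (K : Subgroup (OG (n + 3) (sqForm F))) (hn : nO n F ∈ K)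
    (h1 : SFull K (iE 1)) :
    ∀ j : ℕ, ∀ k : Fin (n + 3), k.val = j + 1 → SFull K (iE k) := by
  intro j
  induction j with
  | zero =>
    intro k hk
    have : k = 1 := Fin.ext (by rw [hk, Fin.val_one])
    rw [this]
    exact h1
  | succ j ih =>
    intro k hk
    have hlt : j + 1 < n + 3 := by have := k.isLt; omega
    have hk' : (⟨j + 1, hlt⟩ : Fin (n + 3)) ≠ Fin.last (n + 2) := by
      intro e
      have e' := congrArg Fin.val e
      rw [Fin.val_last] at e'
      have := k.isLt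
      simp only at e'
      omega
    have e : nx (⟨j + 1, hlt⟩ : Fin (n + 3)) = k := Fin.ext (by rw [nx_val hk', hk])
    rw [← e]
    exact sfull_step K hn (isIso_iE _) (isIso_iE _) one_ne_zero neg_one_ne_zero'
      (by rw [one_smul]; exact nO_iE hk') nO_wv (ih _ rfl)

theorem sfull_iF_chain (K : Subgroup (OG (n + 3) (sqForm F))) (hn : nO n F ∈ K)
    (h1 : SFull K (iF 0)) :
    ∀ j : ℕ, ∀ k : Fin (n + 3), k.val = j → SFull K (iF k) := by
  intro j
  induction j with
  | zero =>
    intro k hk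
    have : k = 0 := Fin.ext (by rw [hk, Fin.val_zero])
    rw [this]
    exact h1
  | succ j ih =>
    intro k hk
    have hlt : j < n + 3 := by have := k.isLt; omega
    have hk' : (⟨j, hlt⟩ : Fin (n + 3)) ≠ Fin.last (n + 2) := by
      intro e
      have e' := congrArg Fin.val e
      rw [Fin.val_last] at e'
      have := k.isLt
      simp only at e'
      omega
    have e : nx (⟨j, hlt⟩ : Fin (n + 3)) = k := Fin.ext (by rw [nx_val hk', hk])
    rw [← e]
    exact sfull_step K hn (isIso_iF _) (isIso_iF _) one_ne_zero neg_one_ne_zero'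
      (by rw [one_smul]; exact nO_iF hk') nO_wv (ih _ rfl)

/-- from the short root elements at `e_1` to all short root elements -/
theorem sfull_all (K : Subgroup (OG (n + 3) (sqForm F))) (hn : nO n F ∈ K)
    (h1 : SFull K (iE 1)) : ∀ a : Idx (n + 3) Unit, IsIso a → SFull K a := by
  have hE := sfull_iE_chain K hn h1
  have hElast : SFull K (iE (Fin.last (n + 2))) := hE (n + 1) _ (by rw [Fin.val_last])
  have hF0 : SFull K (iF 0) :=
    sfull_step K hn (isIso_iE _) (isIso_iF _) c0_ne_zero neg_one_ne_zero' nO_iE_last nO_wv hElast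
  have hF := sfull_iF_chain K hn hF0
  have hE0 : SFull K (iE 0) :=
    sfull_step K hn (isIso_iF _) (isIso_iE _) c0_ne_zero neg_one_ne_zero' nO_iF_last nO_wv
      (hF _ _ rfl)
  intro a ha
  obtain ⟨c, rfl⟩ := (isIso_iff a).1 ha
  rcases c with i | i
  · show SFull K (iE i)
    rcases Nat.eq_zero_or_pos i.val with h0 | h0
    · have : i = 0 := Fin.ext (by rw [h0, Fin.val_zero])
      rw [this]
      exact hE0
    · exact hE (i.val - 1) i (by omega)
  · exact hF _ i rfl

/-- the long root elements from the short ones -/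
theorem lfull_of_sfull (h2 : (2 : F) ≠ 0) (K : Subgroup (OG (n + 3) (sqForm F)))
    (hs : ∀ a : Idx (n + 3) Unit, IsIso a → SFull K a) {a b : Idx (n + 3) Unit} (ha : IsIso a)
    (hb : IsIso b) (hab : b ≠ th a) : LFull K a b := by
  intro c
  have hu : QO n F (ev b) = 0 := Qg_ev_iso _ hb
  have hu' : QO n F (ev a) = 0 := Qg_ev_iso _ ha
  have huu' : bp (QO n F) (ev b) (ev a) = 0 := by
    rw [bp_ev_ev hb, if_neg]
    intro e
    apply hab
    rw [← e, th_th]
  have key := eich_short hu hu' huu' (bp_ev_wv hb) (bp_ev_wv ha) (1 : F) (-c / 2)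
  rw [bp_wv_wv] at key
  have e : (-(1 * (-c / 2) * 2) : F) = c := by field_simp
  rw [e] at key
  have hA := hs b hb 1
  have hB := hs a ha (-c / 2)
  have e2 : eich (QO n F) (ev a) (c • ev b) =
      eich (QO n F) (ev b) ((1 : F) • wv n F) * eich (QO n F) (ev a) ((-c / 2) • wv n F) *
        (eich (QO n F) (ev a) ((-c / 2) • wv n F) * eich (QO n F) (ev b) ((1 : F) • wv n F))⁻¹ := by
    rw [key]
    group
  rw [e2]
  exact K.mul_mem (K.mul_mem hA hB) (K.inv_mem (K.mul_mem hB hA))

/-- all Eichler transformations at an isotropic index -/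
theorem full_point (h2 : (2 : F) ≠ 0) (K : Subgroup (OG (n + 3) (sqForm F)))
    (hs : ∀ a : Idx (n + 3) Unit, IsIso a → SFull K a) {a : Idx (n + 3) Unit} (ha : IsIso a)
    (v : Idx (n + 3) Unit → F) (hv : bp (QO n F) (ev a) v = 0) :
    eich (QO n F) (ev a) v ∈ K := by
  have hva : v (th a) = 0 := by
    rw [← bp_ev_iso' (sqForm F) v ha]
    exact hv
  rw [eq_sum_single v]
  apply eich_sum_mem K (Qg_ev_iso _ ha)
  · intro c _
    show bp (QO n F) (ev a) (v c • ev c) = 0
    rw [map_smul, bp_ev_iso' _ _ ha, ev_apply]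
    by_cases e : th a = c
    · rw [← e, hva, zero_smul]
    · rw [if_neg e, smul_zero]
  · intro c _
    show eich (QO n F) (ev a) (v c • ev c) ∈ K
    by_cases hc : IsIso c
    · by_cases e1 : c = th a
      · rw [e1, hva, zero_smul, eich_zero (Qg_ev_iso _ ha)]
        exact K.one_mem
      · exact lfull_of_sfull h2 K hs ha hc e1 (v c)
    · have hcK : c = iK () := by
        rcases c with c | z
        · exact absurd (isIso_inl c) hc
        · cases z
          rfl
      rw [hcK, ← wv_eq]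
      exact hs a ha _

theorem nx_zero : nx (0 : Fin (n + 3)) = 1 := by
  have h0 : (0 : Fin (n + 3)) ≠ Fin.last (n + 2) := by
    intro e
    have := congrArg Fin.val e
    rw [Fin.val_last, Fin.val_zero] at this
    omega
  exact Fin.ext (by rw [nx_val h0, Fin.val_zero, Fin.val_one])

theorem coprime_card_units [Fintype F] [DecidableEq F] (p : ℕ) [hp : Fact p.Prime] [CharP F p] :
    Nat.Coprime (Fintype.card Fˣ) p := by
  obtain ⟨k, -, hk⟩ := FiniteField.card F p
  rw [Fintype.card_units, hk]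
  have h1 : p ∣ p ^ (k : ℕ) := dvd_pow_self p k.ne_zero
  have h2 : 1 ≤ p ^ (k : ℕ) := Nat.one_le_pow _ _ hp.out.pos
  rw [Nat.coprime_comm, Nat.Prime.coprime_iff_not_dvd hp.out]
  intro h3
  have h4 : p ∣ 1 := by
    have := Nat.dvd_sub h1 h3
    rwa [Nat.sub_sub_self h2] at this
  exact hp.out.one_lt.ne' (Nat.dvd_one.mp h4)

/-- **the two generators generate `Ω`** -/
theorem commutator_le_of_gens [Fintype F] (h2 : (2 : F) ≠ 0)
    (K : Subgroup (OG (n + 3) (sqForm F))) (l : Fˣ) (hl : ∀ x : Fˣ, x ∈ Subgroup.zpowers l)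
    (hx : sO n l * tO n F ∈ K) (hy : nO n F ∈ K) :
    commutator (OG (n + 3) (sqForm F)) ≤ K := by
  classical
  obtain ⟨p, hchar⟩ := CharP.exists F
  have hp : Fact p.Prime := ⟨CharP.char_is_prime F p⟩
  obtain ⟨hs, ht⟩ := Cfsg.Agent.Lib.Helper3.SpTwo.split_coprime K _ _ (sO_commute l) _ _
    (sO_pow l) (tO_pow p) (coprime_card_units p) hx
  have h0 : EPair (QO n F) (ev (iE 0)) (wv n F) := epair_ev_wv1 (isIso_iE 0)
  have h1 : EPair (QO n F) (ev (iE 1)) (wv n F) := epair_ev_wv1 (isIso_iE 1)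
  have h0last : (0 : Fin (n + 3)) ≠ Fin.last (n + 2) := by
    intro e
    have := congrArg Fin.val e
    rw [Fin.val_last, Fin.val_zero] at this
    omega
  have hg1 : eich (QO n F) (ev (iE 1)) ((1 * (-1) * 1 : F) • wv n F) ∈ K := by
    apply eich_conj_smul_mem K hy h0 h1 (a := 1) (b := -1) _ nO_wv (c := 1)
    · rw [one_smul]
      exact ht
    · rw [one_smul, nO_iE h0last, nx_zero]
  have hP : ∀ x : F, x ∈ paramG K h1 := by
    apply Cfsg.Agent.Lib.Helper3.ChevGen2.addSubgroup_eq_top (paramG K h1) l hl 1 (Or.inl rfl) ?_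
      (-1) neg_one_ne_zero' ?_
    · intro c hc
      rw [mem_paramG] at hc ⊢
      have := eich_conj_smul_mem K hs h1 h1 (a := (l : F)) (b := 1)
        (by rw [sO_iE, muO_one]) (by rw [sO_wv, one_smul]) hc
      rw [mul_one] at this
      rwa [zpow_one]
    · rw [mem_paramG]
      have e : (1 * (-1) * 1 : F) = -1 := by ring
      rwa [e] at hg1
  have hS1 : SFull K (iE 1) := fun c => hP c
  have hall := sfull_all K hy hS1
  apply commutator_le_of_two_full (QO_nondeg h2) (by rw [card_idx]; omega) K (ev (iE 0))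
    (ev (iF 0)) (Qg_ev_iso _ (isIso_iE 0)) (Qg_ev_iso _ (isIso_iF 0))
  · rw [bp_ev_ev (isIso_iE 0), if_pos (th_iE 0)]
    exact one_ne_zero
  · exact full_point h2 K hall (isIso_iE 0)
  · exact full_point h2 K hall (isIso_iF 0)

end main

end Cfsg.Agent.Lib.Helper5.OrthGen
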